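import Mathlib.Data.List.Basic
import Mathlib.Logic.Function.Iterate

/-!
Permutations of twenty-eight points for the recognition of `G₂(2)`: the twenty-seven points `9a + 3b + c`
carry the Heisenberg group of order 27, the point `27` is the fixed one. A permutation is stored in base 32.
-/

set_option autoImplicit false

namespace CfsgLib.GTwoTwo.Data

/-- The value at `x` of a stored permutation. -/
def look (T x : ℕ) : ℕ := (T >>> (5 * x)) &&& 31

/-- Storing a map. -/
def store (f : ℕ → ℕ) : ℕ := (List.range 28).foldr (fun x acc => f x + 32 * acc) 0

/-- The Heisenberg product. -/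
def hm (p q : ℕ) : ℕ :=
  9 * ((p / 9 + q / 9) % 3) + 3 * ((p / 3 % 3 + q / 3 % 3) % 3) + (p % 3 + q % 3 + p / 9 * (q / 3 % 3)) % 3

/-- The Heisenberg inverse. -/
def hi (p : ℕ) : ℕ :=
  9 * ((3 - p / 9) % 3) + 3 * ((3 - p / 3 % 3) % 3) + (p / 9 * (p / 3 % 3) + 3 - p % 3) % 3

/-- Left translation, fixing the last point. -/
def lt (a x : ℕ) : ℕ := if x < 27 then hm a x else 27

/-- The sixteen automorphisms `g^i r^j`, at index `i + 8 j`. -/
def hCodes : List ℕ :=
  [1212501494925312236363414443023805295200288, 1205566314934585421022910176351111398949952, 1191425731533137661494035590173706818160672, 1181677558046198094903171872216484553557056, 1195641266995102696927173904434570220242976, 1199815213022829292087351510776648630535232, 1202669838747613038356298276462334580590624, 1187170442639907037425949116382131032196160, 1195599634805545059131875886970165607760960, 1199856634858935993099848704575449838716960, 1202752896570547987741962153468108317328448, 1187211045800642956061233247049425477208096, 1212459515800678349716733826078008032298048, 1205607689871099919143897470494888655390752, 1191385038717490662002382523060077906265152,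 1181595404419744551682371078124668694464544]

/-- An automorphism. -/
def hap (k x : ℕ) : ℕ := look (hCodes.getD k 0) x

/-- The reference involution. -/
def tau0 : ℕ := 19373929857860105881071606361589539046491

/-- For a point, its orbit and an automorphism carrying the representative to it. -/
def wit : List (ℕ × ℕ) :=
  [(0, 0), (0, 0), (0, 1), (1, 0), (2, 0), (1, 14), (1, 10), (1, 4), (2, 4), (1, 7), (1, 13), (2, 7), (1, 1), (1, 15), (2, 1), (1, 8), (1, 2), (2, 2), (1, 9), (2, 3), (1, 3), (2, 6), (1, 12), (1, 6), (1, 5), (1, 11), (2, 5), (0, 0)]

/-- The representatives of the orbits. -/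
def reps : List ℕ := [1, 3, 4]

/-- The orbits. -/
def orbs : List (List ℕ) := [[1, 2], [3, 5, 6, 7, 9, 10, 12, 13, 15, 16, 18, 20, 22, 23, 24, 25], [4, 8, 11, 14, 17, 19, 21, 26]]

/-- The image of the automorphism at index `k` under the substitution `g ↦ gi`, `r ↦ ri`, at `q`. -/
def sig (gi ri k q : ℕ) : ℕ := (hap gi)^[k % 8] ((hap ri)^[k / 8] q)

/-- The images of an orbit. -/
def onOrb (gi ri q x : ℕ) : ℕ := sig gi ri (wit.getD x (0, 0)).2 q

/-- The candidate involution. -/
def cand (gi ri q0 q1 q2 x : ℕ) : ℕ :=
  if x = 0 then 27 else if x = 27 then 0 else onOrb gi ri ([q0, q1, q2].getD (wit.getD x (0, 0)).1 0) x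

/-- The candidate is an involution on an orbit. -/
def good (gi ri o : ℕ) : List ℕ :=
  (orbs.getD o []).filter fun q => (orbs.getD o []).all fun x => onOrb gi ri q (onOrb gi ri q x) == x

/-- The composite of the candidate and translations that fixes the last point. -/
def word (T s x : ℕ) : ℕ := look T (lt (hi (look T s)) (look T (lt s (look T x))))

/-- The composite lies in the point stabiliser. -/
def closedAt (T s : ℕ) : Bool :=
  (List.range 16).any fun k => [9, 3].all (fun x => lt (hi (word T s 0)) (word T s x) == hap k x) &&
    (List.range 28).all fun x => lt (hi (word T s 0)) (word T s x) == hap k x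

/-- All composites lie in the point stabiliser. -/
def closed (T : ℕ) : Bool := (List.range 26).all fun s => closedAt T (s + 1)

/-- The candidate is the reference involution followed by an automorphism. -/
def known (T : ℕ) : Bool :=
  (List.range 16).any fun k => (List.range 28).all fun x => look T x == hap k (look tau0 x)

/-- Every consistent candidate is known. -/
def check (gi ri : ℕ) : Bool :=
  (good gi ri 0).all fun q0 => (good gi ri 1).all fun q1 => (good gi ri 2).all fun q2 =>
    !closed (store (cand gi ri q0 q1 q2)) || known (store (cand gi ri q0 q1 q2))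

end CfsgLib.GTwoTwo.Data
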